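import Mathlib.Algebra.Module.FinitePresentation
import Mathlib.LinearAlgebra.TensorProduct.Pi
import Mathlib.LinearAlgebra.TensorProduct.RightExactness
import Groth.Prelude.Def_Found
import Groth.Prelude.Def_CAlgX

set_option autoImplicit false
universe u
open scoped TensorProduct
open LinearMap

namespace Groth.Agent.ML3

variable {R : Type u} [CommRing R]

section Pi

variable {ι : Type u} (Q : ι → Type u) [∀ i, AddCommGroup (Q i)] [∀ i, Module R (Q i)]
variable {M N : Type u} [AddCommGroup M] [Module R M] [AddCommGroup N] [Module R N]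

lemma piHom_rTensor (f : M →ₗ[R] N) (x : M ⊗[R] (∀ i, Q i)) (i : ι) :
    TensorProduct.piRightHom R R N Q (f.rTensor _ x) i =
      f.rTensor (Q i) (TensorProduct.piRightHom R R M Q x i) := by
  induction x using TensorProduct.induction_on with
  | zero => simp
  | tmul m q => simp
  | add a b ha hb => simp [ha, hb]

lemma piHom_bijective_fin (n : ℕ) :
    Function.Bijective (TensorProduct.piRightHom R R (Fin n → R) Q) := by
  let e : (Fin n → R) ⊗[R] (∀ i, Q i) ≃ₗ[R] Fin n → ∀ i, Q i :=
    (TensorProduct.comm R _ _).trans (TensorProduct.piScalarRight R R _ _)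
  let e' : ∀ i, (Fin n → R) ⊗[R] Q i ≃ₗ[R] Fin n → Q i := fun i =>
    (TensorProduct.comm R _ _).trans (TensorProduct.piScalarRight R R _ _)
  have h : ∀ x i k, e' i (TensorProduct.piRightHom R R _ Q x i) k = e x k i := by
    intro x i k
    induction x using TensorProduct.induction_on with
    | zero => simp
    | tmul m q => simp [e, e']
    | add a b ha hb => simp [ha, hb]
  constructor
  · intro a b hab
    refine e.injective ?_
    funext k i
    rw [← h, ← h, hab]
  · intro y
    refine ⟨e.symm (fun k i => e' i (y i) k), ?_⟩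
    funext i
    apply (e' i).injective
    funext k
    rw [h, LinearEquiv.apply_symm_apply]

lemma piHom_surjective [Module.Finite R M] :
    Function.Surjective (TensorProduct.piRightHom R R M Q) := by
  obtain ⟨n, π, hπ⟩ := Module.Finite.exists_fin' R M
  intro y
  choose z hz using fun i => LinearMap.rTensor_surjective (Q i) hπ (y i)
  obtain ⟨w, hw⟩ := (piHom_bijective_fin Q n).2 z
  refine ⟨π.rTensor _ w, ?_⟩
  funext i
  rw [piHom_rTensor, hw, hz]

end Pi

section ML

variable {M N : Type u} [AddCommGroup M] [Module R M] [AddCommGroup N] [Module R N]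

lemma ml_iff_forall : CAlg.IsMittagLeffler R M ↔
    ∀ (ι : Type u) (Q : ι → Type u) [∀ i, AddCommGroup (Q i)] [∀ i, Module R (Q i)]
      (x : M ⊗[R] (∀ i, Q i)), TensorProduct.piRightHom R R M Q x = 0 → x = 0 := by
  refine forall_congr' fun ι => forall_congr' fun Q => forall_congr' fun _ => forall_congr' fun _ => ?_
  exact injective_iff_map_eq_zero _

lemma ml_fin (n : ℕ) : CAlg.IsMittagLeffler R (Fin n → R) := fun _ Q _ _ =>
  (piHom_bijective_fin Q n).1

lemma ml_of_univInj (f : M →ₗ[R] N) (hf : CAlgX.UniversallyInjective R f)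
    (h : CAlg.IsMittagLeffler R N) : CAlg.IsMittagLeffler R M := by
  intro ι Q _ _ a b hab
  apply hf
  apply h ι Q
  funext i
  rw [piHom_rTensor, piHom_rTensor, hab]

/-- Quotient by a finitely generated submodule. -/
lemma ml_of_surjective (π : M →ₗ[R] N) (hπ : Function.Surjective π)
    (hker : (LinearMap.ker π).FG) (hM : CAlg.IsMittagLeffler R M) :
    CAlg.IsMittagLeffler R N := by
  rw [ml_iff_forall]
  intro ι Q _ _ x hx
  obtain ⟨y, rfl⟩ := LinearMap.rTensor_surjective _ hπ x
  have : Module.Finite R (LinearMap.ker π) := Module.Finite.iff_fg.mpr hker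
  have hexact : ∀ P : Type u, ∀ [AddCommGroup P] [Module R P],
      Function.Exact ((LinearMap.ker π).subtype.rTensor P) (π.rTensor P) := fun P _ _ =>
    rTensor_exact P (LinearMap.exact_subtype_ker_map π) hπ
  have : ∀ i, ∃ z, (LinearMap.ker π).subtype.rTensor (Q i) z
      = TensorProduct.piRightHom R R M Q y i := fun i =>
    (hexact (Q i) _).1 (by rw [← piHom_rTensor, hx]; rfl)
  choose z hz using this
  obtain ⟨w, hw⟩ := piHom_surjective Q z
  have : y = (LinearMap.ker π).subtype.rTensor _ w := hM ι Q (by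
    funext i
    rw [piHom_rTensor, hw, hz])
  rw [this]
  exact (hexact (∀ i, Q i) _).2 ⟨w, rfl⟩

lemma ml_of_fp [Module.FinitePresentation R M] : CAlg.IsMittagLeffler R M := by
  obtain ⟨n, π, hπ⟩ := Module.Finite.exists_fin' R M
  exact ml_of_surjective π hπ (Module.FinitePresentation.fg_ker π hπ) (ml_fin n)

end ML

/-- `g` dominates `f`. -/
def Dom {M N M' : Type u} [AddCommGroup M] [Module R M] [AddCommGroup N] [Module R N]
    [AddCommGroup M'] [Module R M'] (f : M →ₗ[R] N) (g : M →ₗ[R] M') : Prop :=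
  ∀ (Q : Type u) [AddCommGroup Q] [Module R Q],
    LinearMap.ker (f.rTensor Q) ≤ LinearMap.ker (g.rTensor Q)

variable {M N M' P Q : Type u} [AddCommGroup M] [Module R M] [AddCommGroup N] [Module R N]
  [AddCommGroup M'] [Module R M'] [AddCommGroup P] [Module R P] [AddCommGroup Q] [Module R Q]

lemma dom_comp (f : M →ₗ[R] N) (h : N →ₗ[R] M') : Dom f (h ∘ₗ f) := by
  intro Q _ _ x hx
  rw [LinearMap.mem_ker] at hx ⊢
  rw [LinearMap.rTensor_comp, LinearMap.comp_apply, hx, map_zero]

lemma exists_fg_le_mem_range {F : Type u} [AddCommGroup F] [Module R F] (K : Submodule R F)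
    (z : K ⊗[R] Q) : ∃ t : Finset F, (∀ k ∈ t, k ∈ K) ∧
      K.subtype.rTensor Q z ∈ LinearMap.range ((Submodule.span R (t : Set F)).subtype.rTensor Q) := by
  classical
  induction z using TensorProduct.induction_on with
  | zero => exact ⟨∅, by simp, by simp⟩
  | tmul k q =>
    refine ⟨{k.1}, by simp, ⟨⟨k.1, Submodule.subset_span (by simp)⟩ ⊗ₜ q, ?_⟩⟩
    simp
  | add a b ha hb =>
    obtain ⟨t, ht, ⟨za, hza⟩⟩ := ha
    obtain ⟨t', ht', ⟨zb, hzb⟩⟩ := hb
    refine ⟨t ∪ t', by grind, ?_⟩
    have e1 : Submodule.span R (t : Set F) ≤ Submodule.span R ((t ∪ t' : Finset F) : Set F) :=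
      Submodule.span_mono (by simp)
    have e2 : Submodule.span R (t' : Set F) ≤ Submodule.span R ((t ∪ t' : Finset F) : Set F) :=
      Submodule.span_mono (by simp)
    refine ⟨(Submodule.inclusion e1).rTensor Q za + (Submodule.inclusion e2).rTensor Q zb, ?_⟩
    rw [map_add, map_add, ← hza, ← hzb, ← LinearMap.rTensor_comp_apply,
      ← LinearMap.rTensor_comp_apply, Submodule.subtype_comp_inclusion,
      Submodule.subtype_comp_inclusion]

lemma exists_finset_of_rTensor_eq_zero {F : Type u} [AddCommGroup F] [Module R F] (π : F →ₗ[R] M)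
    (hπ : Function.Surjective π) (y : F ⊗[R] Q) (h0 : π.rTensor Q y = 0) :
    ∃ t : Finset F, (∀ k ∈ t, π k = 0) ∧
      y ∈ LinearMap.range ((Submodule.span R (t : Set F)).subtype.rTensor Q) := by
  obtain ⟨z, rfl⟩ := (rTensor_exact Q (LinearMap.exact_subtype_ker_map π) hπ y).1 h0
  obtain ⟨t, ht, hz⟩ := exists_fg_le_mem_range (LinearMap.ker π) z
  exact ⟨t, fun k hk => LinearMap.mem_ker.mp (ht k hk), hz⟩

/-- A kernel element is killed by a finitely presented factor. -/
lemma exists_fp_factor [Module.FinitePresentation R P] (f : P →ₗ[R] M) (x : P ⊗[R] Q)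
    (hx : f.rTensor Q x = 0) :
    ∃ (P' : Type u) (_ : AddCommGroup P') (_ : Module R P') (_ : Module.FinitePresentation R P')
      (f' : P →ₗ[R] P') (h : P' →ₗ[R] M), f = h ∘ₗ f' ∧ f'.rTensor Q x = 0 := by
  classical
  let π : P × (M →₀ R) →ₗ[R] M := f.coprod (Finsupp.linearCombination R id)
  have hπ : Function.Surjective π := fun m => ⟨(0, Finsupp.single m 1), by simp [π]⟩
  let i₀ : P →ₗ[R] P × (M →₀ R) := LinearMap.inl R P _
  have h0 : π.rTensor Q (i₀.rTensor Q x) = 0 := by
    rw [← LinearMap.rTensor_comp_apply, LinearMap.coprod_inl, hx]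
  obtain ⟨t, htK, w, hw⟩ := exists_finset_of_rTensor_eq_zero π hπ _ h0
  let s : Finset M := t.biUnion fun k => k.2.support
  let π' : P × (s → R) →ₗ[R] M := f.coprod (Fintype.linearCombination R (fun i : s => (i : M)))
  let r : P × (M →₀ R) →ₗ[R] P × (s → R) :=
    LinearMap.id.prodMap (LinearMap.pi fun i : s => Finsupp.lapply (i : M))
  let K : Submodule R (P × (s → R)) := (Submodule.span R (t : Set (P × (M →₀ R)))).map r
  have hK : K ≤ LinearMap.ker π' := by
    rw [Submodule.map_le_iff_le_comap, Submodule.span_le]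
    intro k hk
    have hsub : k.2.support ⊆ s := fun a ha => Finset.mem_biUnion.mpr ⟨k, hk, ha⟩
    have : π' (r k) = π k := by
      simp only [π', π, r, LinearMap.coprod_apply, LinearMap.prodMap_apply, LinearMap.id_apply]
      congr 1
      rw [Fintype.linearCombination_apply, Finsupp.linearCombination_apply,
        Finsupp.sum_of_support_subset _ hsub _ (by simp)]
      exact Finset.sum_coe_sort s (fun m => k.2 m • m)
    simp [this, htK k hk]
  have hKfg : (LinearMap.ker K.mkQ).FG := by
    rw [Submodule.ker_mkQ]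
    exact (Submodule.fg_span t.finite_toSet).map r
  have : Module.FinitePresentation R ((P × (s → R)) ⧸ K) :=
    Module.finitePresentation_of_surjective _ K.mkQ_surjective hKfg
  refine ⟨(P × (s → R)) ⧸ K, inferInstance, inferInstance, inferInstance,
    K.mkQ ∘ₗ LinearMap.inl R P _, K.liftQ π' hK, ?_, ?_⟩
  · ext p; simp [π']
  · have hr : r ∘ₗ i₀ = LinearMap.inl R P (s → R) := by
      ext p <;> simp [r, i₀]
    rw [← hr, ← LinearMap.comp_assoc, LinearMap.rTensor_comp_apply, ← hw,
      ← LinearMap.rTensor_comp_apply]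
    have : (K.mkQ ∘ₗ r) ∘ₗ (Submodule.span R (t : Set (P × (M →₀ R)))).subtype = 0 := by
      ext k
      simp only [LinearMap.comp_apply, Submodule.coe_subtype, LinearMap.zero_apply,
        Submodule.mkQ_apply, Submodule.Quotient.mk_eq_zero]
      exact Submodule.mem_map_of_mem k.2
    rw [this, LinearMap.rTensor_zero, LinearMap.zero_apply]

/-- Domination may be tested on finitely presented modules. -/
lemma dom_of_fp (f : M →ₗ[R] N) (g : M →ₗ[R] M')
    (h : ∀ (Q : Type u) [AddCommGroup Q] [Module R Q], Module.FinitePresentation R Q →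
      LinearMap.ker (f.rTensor Q) ≤ LinearMap.ker (g.rTensor Q)) : Dom f g := by
  intro Q _ _ x hx
  obtain ⟨n, q, x₀, rfl⟩ : ∃ (n : ℕ) (q : (Fin n → R) →ₗ[R] Q) (x₀ : M ⊗[R] (Fin n → R)),
      q.lTensor M x₀ = x := by
    obtain ⟨S, hS⟩ := TensorProduct.exists_finset x
    let e := S.equivFin.symm
    refine ⟨S.card, Fintype.linearCombination R (fun k => (e k).1.2),
      ∑ k, (e k).1.1 ⊗ₜ Pi.single k (1 : R), ?_⟩
    rw [map_sum, hS, ← Finset.sum_coe_sort S, ← e.sum_comp]
    simp
  have h0 : q.rTensor N (TensorProduct.comm R N _ (f.rTensor _ x₀)) = 0 := by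
    apply (TensorProduct.comm R Q N).injective
    rw [map_zero, ← LinearMap.mem_ker.mp hx]
    clear hx
    induction x₀ using TensorProduct.induction_on with
    | zero => simp
    | tmul m v => simp
    | add a b ha hb => simp [ha, hb]
  obtain ⟨P', _, _, _, q', p, hq, hq'⟩ := exists_fp_factor q _ h0
  have h1 : f.rTensor P' (q'.lTensor M x₀) = 0 := by
    apply (TensorProduct.comm R N P').injective
    rw [map_zero, ← hq']
    clear hx h0 hq'
    induction x₀ using TensorProduct.induction_on with
    | zero => simp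
    | tmul m v => simp
    | add a b ha hb => simp [ha, hb]
  have h2 : g.rTensor P' (q'.lTensor M x₀) = 0 := h P' inferInstance h1
  have h3 := congrArg (p.lTensor M') h2
  rw [map_zero] at h3
  rw [LinearMap.mem_ker, ← h3, hq]
  clear hx h0 hq' h1 h2 h3
  induction x₀ using TensorProduct.induction_on with
  | zero => simp
  | tmul m v => simp
  | add a b ha hb => simp [ha, hb]

/-- If the cokernel of `f` is finitely presented, domination is factorisation. -/
lemma exists_factor (f : M →ₗ[R] N) (g : M →ₗ[R] M')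
    [Module.FinitePresentation R (N ⧸ LinearMap.range f)] (hfg : Dom f g) :
    ∃ h : N →ₗ[R] M', g = h ∘ₗ f := by
  classical
  obtain ⟨n, π, hπ⟩ := Module.Finite.exists_fin' R (N ⧸ LinearMap.range f)
  obtain ⟨b, hb⟩ := Module.projective_lifting_property (LinearMap.range f).mkQ π
    (Submodule.mkQ_surjective _)
  obtain ⟨m, r, hr⟩ := Submodule.fg_iff_exists_fin_generating_family.mp
    (Module.FinitePresentation.fg_ker π hπ)
  have hmem : ∀ k, b (r k) ∈ LinearMap.range f := fun k => by
    rw [← Submodule.Quotient.mk_eq_zero, ← Submodule.mkQ_apply, ← LinearMap.comp_apply, hb]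
    exact LinearMap.mem_ker.mp (hr ▸ Submodule.subset_span ⟨k, rfl⟩)
  choose a ha using hmem
  let T : (Fin n → R) →ₗ[R] (Fin m → R) :=
    LinearMap.pi fun k => Fintype.linearCombination R (r k)
  let C := (Fin m → R) ⧸ LinearMap.range T
  let x₀ : M ⊗[R] (Fin m → R) := ∑ k, a k ⊗ₜ Pi.single k (1 : R)
  let eN := TensorProduct.piScalarRight R R N (Fin m)
  have hcoord : ∀ {L : Type u} [AddCommGroup L] [Module R L] (c : Fin n → L) (k : Fin m),
      TensorProduct.piScalarRight R R L (Fin m)
          (T.lTensor L (∑ j, c j ⊗ₜ Pi.single j (1 : R))) k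
        = Fintype.linearCombination R c (r k) := by
    intro L _ _ c k
    simp [T, Fintype.linearCombination_apply, Pi.single_apply]
  have hfx : f.rTensor (Fin m → R) x₀ =
      T.lTensor N (∑ j, b (Pi.single j 1) ⊗ₜ Pi.single j (1 : R)) := by
    apply eN.injective
    funext k
    rw [hcoord]
    simp only [x₀, map_sum, LinearMap.rTensor_tmul]
    simp only [eN, TensorProduct.piScalarRight_apply, TensorProduct.piScalarRightHom_tmul,
      Finset.sum_apply]
    rw [Finset.sum_eq_single k (fun i _ hik => by simp [hik.symm]) (by simp), Pi.single_eq_same,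
      one_smul, ha]
    conv_lhs => rw [pi_eq_sum_univ' (r k)]
    simp [Fintype.linearCombination_apply]
  have hex : ∀ (L : Type u) [AddCommGroup L] [Module R L],
      Function.Exact (T.lTensor L) ((LinearMap.range T).mkQ.lTensor L) := fun L _ _ =>
    lTensor_exact L (LinearMap.exact_map_mkQ_range T) (Submodule.mkQ_surjective _)
  have h0 : f.rTensor C ((LinearMap.range T).mkQ.lTensor M x₀) = 0 := by
    rw [← LinearMap.comp_apply, LinearMap.rTensor_comp_lTensor, ← LinearMap.lTensor_comp_rTensor,
      LinearMap.comp_apply, hfx]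
    exact (hex N _).2 ⟨_, rfl⟩
  have h1 : g.rTensor C ((LinearMap.range T).mkQ.lTensor M x₀) = 0 := hfg C h0
  rw [← LinearMap.comp_apply, LinearMap.rTensor_comp_lTensor, ← LinearMap.lTensor_comp_rTensor,
    LinearMap.comp_apply] at h1
  obtain ⟨y, hy⟩ := (hex M' _).1 h1
  let c : Fin n → M' := TensorProduct.piScalarRight R R M' (Fin n) y
  have hy' : y = ∑ j, c j ⊗ₜ Pi.single j (1 : R) := by
    apply (TensorProduct.piScalarRight R R M' (Fin n)).injective
    funext j
    simp only [map_sum, TensorProduct.piScalarRight_apply, TensorProduct.piScalarRightHom_tmul,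
      Finset.sum_apply]
    rw [Finset.sum_eq_single j (fun i _ hij => by simp [hij.symm]) (by simp)]
    simp [c]
  have hga : ∀ k, g (a k) = Fintype.linearCombination R c (r k) := by
    intro k
    rw [← hcoord c k, ← hy', hy]
    simp only [x₀, map_sum, LinearMap.rTensor_tmul, TensorProduct.piScalarRight_apply,
      TensorProduct.piScalarRightHom_tmul, Finset.sum_apply]
    rw [Finset.sum_eq_single k (fun i _ hik => by simp [hik.symm]) (by simp)]
    simp
  let φ : M × (Fin n → R) →ₗ[R] N := f.coprod b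
  let ψ : M × (Fin n → R) →ₗ[R] M' := g.coprod (Fintype.linearCombination R c)
  have hφ : Function.Surjective φ := by
    intro x
    obtain ⟨v, hv⟩ := hπ ((LinearMap.range f).mkQ x)
    rw [← hb, LinearMap.comp_apply, Submodule.mkQ_apply, Submodule.mkQ_apply,
      Submodule.Quotient.eq] at hv
    obtain ⟨y, hy⟩ := hv
    exact ⟨(-y, v), by simp [φ, hy]⟩
  have hker : LinearMap.ker φ ≤ LinearMap.ker ψ := by
    rintro ⟨x, v⟩ hxv
    simp only [LinearMap.mem_ker, φ, LinearMap.coprod_apply] at hxv
    simp only [LinearMap.mem_ker, ψ, LinearMap.coprod_apply]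
    have hv : v ∈ LinearMap.ker π := by
      rw [LinearMap.mem_ker, ← hb, LinearMap.comp_apply, Submodule.mkQ_apply,
        Submodule.Quotient.mk_eq_zero]
      exact ⟨-x, by simpa using neg_eq_of_add_eq_zero_right hxv⟩
    rw [← hr] at hv
    obtain ⟨w, rfl⟩ := (Submodule.mem_span_range_iff_exists_fun R).mp hv
    have hx0 : f (x + ∑ k, w k • a k) = 0 := by simpa [ha] using hxv
    have hg0 : g (x + ∑ k, w k • a k) = 0 := by
      have := hfg R (show f.rTensor R ((x + ∑ k, w k • a k) ⊗ₜ (1 : R)) = 0 by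
        rw [LinearMap.rTensor_tmul, hx0, TensorProduct.zero_tmul])
      simpa using congrArg (TensorProduct.rid R M') (LinearMap.mem_ker.mp this)
    simpa [hga] using hg0
  let e := φ.quotKerEquivOfSurjective hφ
  refine ⟨(LinearMap.ker φ).liftQ ψ hker ∘ₗ e.symm.toLinearMap, ?_⟩
  ext x
  have : e.symm (f x) = Submodule.Quotient.mk (x, 0) := by
    apply e.injective
    rw [LinearEquiv.apply_symm_apply]
    simp [e, φ]
  simp [this, ψ]

variable (R M) in
/-- The condition of finitely presented dominating maps, for finite free sources. -/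
def DomProp : Prop :=
  ∀ (n : ℕ) (f : (Fin n → R) →ₗ[R] M),
    ∃ (Q : Type u) (_ : AddCommGroup Q) (_ : Module R Q) (_ : Module.FinitePresentation R Q)
      (g : (Fin n → R) →ₗ[R] Q),
      ∀ (N : Type u) [AddCommGroup N] [Module R N],
        LinearMap.ker (f.rTensor N) = LinearMap.ker (g.rTensor N)

lemma exists_dominating (hM : CAlg.IsMittagLeffler R M) [Module.FinitePresentation R P]
    (f : P →ₗ[R] M) :
    ∃ (Q : Type u) (_ : AddCommGroup Q) (_ : Module R Q) (_ : Module.FinitePresentation R Q)
      (g : P →ₗ[R] Q) (h : Q →ₗ[R] M), f = h ∘ₗ g ∧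
      ∀ (N : Type u) [AddCommGroup N] [Module R N],
        LinearMap.ker (f.rTensor N) = LinearMap.ker (g.rTensor N) := by
  let I₀ := Σ (a b : ℕ), Fin b → Fin a → R
  let Z : I₀ → Type u := fun d => (Fin d.1 → R) ⧸ Submodule.span R (Set.range d.2.2)
  let I := Σ d : I₀, LinearMap.ker (f.rTensor (Z d))
  let W : I → Type u := fun i => Z i.1
  obtain ⟨X, hX⟩ := piHom_surjective (M := P) W (fun i => i.2.1)
  have h0 : f.rTensor _ X = 0 := by
    apply hM I W
    funext i
    rw [piHom_rTensor, hX, map_zero]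
    exact i.2.2
  obtain ⟨P', _, _, _, g, h, hgh, hgX⟩ := exists_fp_factor f X h0
  refine ⟨P', inferInstance, inferInstance, inferInstance, g, h, hgh, fun N _ _ =>
    le_antisymm (dom_of_fp f g ?_ N) ?_⟩
  · intro N _ _ hN x hx
    obtain ⟨a, π, hπ⟩ := Module.Finite.exists_fin' R N
    obtain ⟨b, r, hr⟩ := Submodule.fg_iff_exists_fin_generating_family.mp
      (Module.FinitePresentation.fg_ker π hπ)
    let d : I₀ := ⟨a, b, r⟩
    let e : Z d ≃ₗ[R] N :=
      (Submodule.quotEquivOfEq _ _ hr).trans (π.quotKerEquivOfSurjective hπ)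
    obtain ⟨x', rfl⟩ : ∃ x', e.toLinearMap.lTensor P x' = x :=
      (e.lTensor P).surjective x
    have hx' : f.rTensor (Z d) x' = 0 := by
      apply (e.lTensor M).injective
      rw [map_zero, ← LinearMap.mem_ker.mp hx]
      clear hx
      induction x' using TensorProduct.induction_on with
      | zero => simp
      | tmul m v => simp
      | add a b ha hb => simp [ha, hb]
    have : g.rTensor (Z d) x' = 0 := by
      rw [show x' = TensorProduct.piRightHom R R P W X ⟨d, x', hx'⟩ by rw [hX]]
      have := congrArg (fun y => TensorProduct.piRightHom R R P' W y ⟨d, x', hx'⟩) hgX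
      simpa [piHom_rTensor] using this
    rw [LinearMap.mem_ker, ← LinearMap.comp_apply, LinearMap.rTensor_comp_lTensor,
      ← LinearMap.lTensor_comp_rTensor, LinearMap.comp_apply, this, map_zero]
  · rw [hgh]
    exact dom_comp g h N

lemma ml_of_domProp (h : DomProp R M) : CAlg.IsMittagLeffler R M := by
  rw [ml_iff_forall]
  intro ι Q _ _ x hx
  obtain ⟨n, f, y, rfl⟩ : ∃ (n : ℕ) (f : (Fin n → R) →ₗ[R] M)
      (y : (Fin n → R) ⊗[R] (∀ i, Q i)), f.rTensor _ y = x := by
    obtain ⟨S, hS⟩ := TensorProduct.exists_finset x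
    let e := S.equivFin.symm
    refine ⟨S.card, Fintype.linearCombination R (fun k => (e k).1.1),
      ∑ k, Pi.single k (1 : R) ⊗ₜ (e k).1.2, ?_⟩
    rw [map_sum, hS, ← Finset.sum_coe_sort S, ← e.sum_comp]
    simp
  obtain ⟨Z, _, _, _, g, hg⟩ := h n f
  have : g.rTensor _ y = 0 := by
    apply ml_of_fp (R := R) (M := Z) ι Q
    funext i
    rw [piHom_rTensor, map_zero]
    show g.rTensor (Q i) _ = (0 : Z ⊗[R] Q i)
    rw [← LinearMap.mem_ker, ← hg (Q i), LinearMap.mem_ker, ← piHom_rTensor, hx]
    rfl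
  rwa [← LinearMap.mem_ker, hg (∀ i, Q i), LinearMap.mem_ker]

lemma domProp_of_ml (h : CAlg.IsMittagLeffler R M) : DomProp R M := fun _ f =>
  let ⟨Q, i1, i2, i3, g, _, _, hg⟩ := exists_dominating h f
  ⟨Q, i1, i2, i3, g, hg⟩

end Groth.Agent.ML3
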