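import Mathlib.LinearAlgebra.TensorProduct.DirectLimit
import Groth.Agent.ML3.Dominate

set_option autoImplicit false
universe u
open scoped TensorProduct
open LinearMap

namespace Groth.Agent.ML3

variable {R : Type u} [CommRing R] {ι : Type u} [Preorder ι] [IsDirected ι (· ≤ ·)]
  [DecidableEq ι] {G : ι → Type u} [∀ i, AddCommGroup (G i)] [∀ i, Module R (G i)]
  (f : ∀ i j, i ≤ j → G i →ₗ[R] G j) [DirectedSystem G fun i j h => f i j h]

lemma exists_rTensor_of [Nonempty ι] (Q : Type u) [AddCommGroup Q] [Module R Q]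
    (x : Module.DirectLimit G f ⊗[R] Q) :
    ∃ (i : ι) (y : G i ⊗[R] Q), (Module.DirectLimit.of R ι G f i).rTensor Q y = x := by
  obtain ⟨i, y, hy⟩ := Module.DirectLimit.exists_of (TensorProduct.directLimitLeft f Q x)
  exact ⟨i, y, (TensorProduct.directLimitLeft f Q).injective
    (by rw [TensorProduct.directLimitLeft_rTensor_of, hy])⟩

lemma exists_le_rTensor_eq_zero {Q : Type u} [AddCommGroup Q] [Module R Q] {i : ι}
    {y : G i ⊗[R] Q} (hy : (Module.DirectLimit.of R ι G f i).rTensor Q y = 0) :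
    ∃ (j : ι) (h : i ≤ j), (f i j h).rTensor Q y = 0 := by
  have := congrArg (TensorProduct.directLimitLeft f Q) hy
  rw [map_zero, TensorProduct.directLimitLeft_rTensor_of] at this
  exact Module.DirectLimit.of.zero_exact this

lemma f_comp {i j k : ι} (hij : i ≤ j) (hjk : j ≤ k) :
    f j k hjk ∘ₗ f i j hij = f i k (hij.trans hjk) :=
  LinearMap.ext fun x => DirectedSystem.map_map' f hij hjk x

lemma of_comp {i j : ι} (hij : i ≤ j) :
    Module.DirectLimit.of R ι G f j ∘ₗ f i j hij = Module.DirectLimit.of R ι G f i :=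
  LinearMap.ext fun _ => Module.DirectLimit.of_f

lemma exists_le_apply_eq_zero [Nonempty ι] {P : Type u} [AddCommGroup P] [Module R P]
    [Module.Finite R P] {i : ι} (a : P →ₗ[R] G i)
    (h : Module.DirectLimit.of R ι G f i ∘ₗ a = 0) :
    ∃ (j : ι) (hij : i ≤ j), f i j hij ∘ₗ a = 0 := by
  classical
  obtain ⟨s, hs⟩ := Module.Finite.fg_top (R := R) (M := P)
  have hex : ∀ p : P, ∃ (j : ι) (hij : i ≤ j), f i j hij (a p) = 0 := fun p =>
    Module.DirectLimit.of.zero_exact (LinearMap.congr_fun h p)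
  choose j hj hj0 using hex
  obtain ⟨k, hk⟩ := (insert i (s.image j)).exists_le
  refine ⟨k, hk i (by simp), ?_⟩
  rw [← LinearMap.ker_eq_top, eq_top_iff, ← hs, Submodule.span_le]
  intro p hp
  have hjk : j p ≤ k := hk _ (Finset.mem_insert_of_mem (Finset.mem_image_of_mem j hp))
  show f i k _ (a p) = 0
  rw [← DirectedSystem.map_map' f (hj p) hjk, hj0, map_zero]

lemma exists_factor_of [Nonempty ι] {P : Type u} [AddCommGroup P] [Module R P]
    [Module.FinitePresentation R P] (φ : P →ₗ[R] Module.DirectLimit G f) :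
    ∃ (i : ι) (a : P →ₗ[R] G i), Module.DirectLimit.of R ι G f i ∘ₗ a = φ := by
  obtain ⟨n, π, hπ⟩ := Module.Finite.exists_fin' R P
  choose idx b hb using fun k : Fin n => Module.DirectLimit.exists_of (φ (π (Pi.single k 1)))
  obtain ⟨i, hi⟩ := (Finset.univ.image idx).exists_le
  let a₀ : (Fin n → R) →ₗ[R] G i :=
    Fintype.linearCombination R fun k => f (idx k) i (hi _ (by simp)) (b k)
  have ha₀ : Module.DirectLimit.of R ι G f i ∘ₗ a₀ = φ ∘ₗ π := by
    refine LinearMap.pi_ext' fun k => LinearMap.ext_ring ?_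
    simp [a₀, ← hb k]
  have : Module.Finite R (LinearMap.ker π) :=
    Module.Finite.iff_fg.mpr (Module.FinitePresentation.fg_ker π hπ)
  obtain ⟨j, hij, hj⟩ := exists_le_apply_eq_zero f (a₀ ∘ₗ (LinearMap.ker π).subtype) (by
    rw [← LinearMap.comp_assoc, ha₀, LinearMap.comp_assoc, LinearMap.comp_ker_subtype,
      LinearMap.comp_zero])
  let e := π.quotKerEquivOfSurjective hπ
  have hle : LinearMap.ker π ≤ LinearMap.ker (f i j hij ∘ₗ a₀) := fun v hv =>
    LinearMap.congr_fun hj ⟨v, hv⟩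
  refine ⟨j, (LinearMap.ker π).liftQ (f i j hij ∘ₗ a₀) hle ∘ₗ e.symm.toLinearMap, ?_⟩
  rw [← LinearMap.cancel_right hπ]
  refine LinearMap.ext fun v => ?_
  have he : e.symm (π v) = Submodule.Quotient.mk v := e.injective (by simp [e])
  simp only [LinearMap.comp_apply, LinearEquiv.coe_coe, he]
  rw [Submodule.liftQ_apply, LinearMap.comp_apply, Module.DirectLimit.of_f]
  exact LinearMap.congr_fun ha₀ v

variable [Nonempty ι] [∀ i, Module.FinitePresentation R (G i)]

lemma ml_iff_eventually :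
    CAlg.IsMittagLeffler R (Module.DirectLimit G f) ↔
      ∀ i, ∃ (j : ι) (hij : i ≤ j), ∀ (k : ι) (hik : i ≤ k),
        ∃ h : G k →ₗ[R] G j, f i j hij = h ∘ₗ f i k hik := by
  constructor
  · intro hM i
    obtain ⟨Q, _, _, _, g, h, hgh, hker⟩ := exists_dominating hM (Module.DirectLimit.of R ι G f i)
    obtain ⟨j₀, a, ha⟩ := exists_factor_of f h
    obtain ⟨j₁, h₀, h₁⟩ := directed_of (α := ι) (· ≤ ·) i j₀
    obtain ⟨j, h₁j, hj⟩ := exists_le_apply_eq_zero f (f i j₁ h₀ - f j₀ j₁ h₁ ∘ₗ a ∘ₗ g) (by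
      rw [LinearMap.comp_sub, ← LinearMap.comp_assoc, of_comp, of_comp, ← LinearMap.comp_assoc,
        ha, ← hgh, sub_self])
    rw [LinearMap.comp_sub, sub_eq_zero, f_comp] at hj
    refine ⟨j, h₀.trans h₁j, fun k hik => ?_⟩
    have : Module.FinitePresentation R (G k ⧸ LinearMap.range (f i k hik)) :=
      Module.finitePresentation_of_surjective _ (Submodule.mkQ_surjective _)
        (by rw [Submodule.ker_mkQ]; exact LinearMap.range_eq_map (f i k hik) ▸
          (Module.Finite.fg_top.map _))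
    refine exists_factor (f i k hik) _ fun N _ _ x hx => ?_
    have : x ∈ LinearMap.ker (g.rTensor N) := by
      rw [← hker N, LinearMap.mem_ker, ← of_comp f hik, LinearMap.rTensor_comp_apply,
        LinearMap.mem_ker.mp hx, map_zero]
    rw [LinearMap.mem_ker, hj, ← LinearMap.comp_assoc, ← LinearMap.comp_assoc,
      LinearMap.rTensor_comp_apply, LinearMap.mem_ker.mp this, map_zero]
  · intro H
    rw [ml_iff_forall]
    intro κ Q _ _ x hx
    obtain ⟨i, y, rfl⟩ := exists_rTensor_of f _ x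
    obtain ⟨j, hij, hj⟩ := H i
    have : (f i j hij).rTensor _ y = 0 := ml_of_fp κ Q (by
      funext t
      rw [piHom_rTensor, map_zero]
      have h1 := congrFun hx t
      rw [piHom_rTensor] at h1
      obtain ⟨k, hik, hk⟩ := exists_le_rTensor_eq_zero f h1
      obtain ⟨h, hh⟩ := hj k hik
      rw [hh, LinearMap.rTensor_comp_apply, hk, map_zero]
      rfl)
    rw [← of_comp f hij, LinearMap.rTensor_comp_apply, this, map_zero]

end Groth.Agent.ML3
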