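import Mathlib.LinearAlgebra.Finsupp.Supported
import Groth.Agent.ML3.Colimit

set_option autoImplicit false
universe u
open scoped TensorProduct
open LinearMap

namespace Groth.Agent.ML3

variable {R : Type u} [CommRing R]

lemma exists_fp_system (M : Type u) [AddCommGroup M] [Module R M] :
    ∃ (ι : Type u) (_ : Preorder ι) (_ : IsDirected ι (· ≤ ·)) (_ : Nonempty ι)
      (_ : DecidableEq ι) (G : ι → Type u) (_ : ∀ i, AddCommGroup (G i)) (_ : ∀ i, Module R (G i))
      (f : ∀ i j, i ≤ j → G i →ₗ[R] G j) (_ : DirectedSystem G fun i j h => f i j h),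
      (∀ i, Module.FinitePresentation R (G i)) ∧ Nonempty (Module.DirectLimit G f ≃ₗ[R] M) := by
  classical
  let π : (M →₀ R) →ₗ[R] M := Finsupp.linearCombination R id
  let ι := {p : Finset M × Submodule R (M →₀ R) //
    p.2.FG ∧ p.2 ≤ LinearMap.ker π ∧ p.2 ≤ Finsupp.supported R R (p.1 : Set M)}
  have hdir : IsDirected ι (· ≤ ·) := ⟨fun a b =>
    ⟨⟨(a.1.1 ∪ b.1.1, a.1.2 ⊔ b.1.2), a.2.1.sup b.2.1, sup_le a.2.2.1 b.2.2.1,
      sup_le (a.2.2.2.trans (Finsupp.supported_mono (by simp)))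
        (b.2.2.2.trans (Finsupp.supported_mono (by simp)))⟩,
      ⟨Finset.subset_union_left, le_sup_left⟩, ⟨Finset.subset_union_right, le_sup_right⟩⟩⟩
  have hne : Nonempty ι := ⟨⟨(∅, ⊥), Submodule.fg_bot, bot_le, bot_le⟩⟩
  let _ : ∀ t : Set M, AddCommGroup (Finsupp.supported R R t) := fun t => Submodule.addCommGroup _
  let G : ι → Type u := fun i => ↥(Finsupp.supported R R (i.1.1 : Set M)) ⧸
    Submodule.comap (R := R) (Finsupp.supported R R (i.1.1 : Set M)).subtype i.1.2
  let f : ∀ i j : ι, i ≤ j → G i →ₗ[R] G j := fun i j h =>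
    Submodule.mapQ _ _ (Submodule.inclusion (Finsupp.supported_mono (Finset.coe_subset.mpr h.1)))
      fun v hv => h.2 hv
  have hsys : DirectedSystem G fun i j h => f i j h :=
    { map_self := fun i x => Submodule.Quotient.induction_on _ x fun v => rfl
      map_map := fun i j k hij hjk x => Submodule.Quotient.induction_on _ x fun v => rfl }
  refine ⟨ι, inferInstance, hdir, hne, inferInstance, G, inferInstance, inferInstance, f, hsys,
    fun i => ?_, ⟨LinearEquiv.ofBijective
      (Module.DirectLimit.lift R ι G f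
        (fun i => Submodule.liftQ _ (π ∘ₗ (Finsupp.supported R R (i.1.1 : Set M)).subtype)
          fun v hv => by exact i.2.2.1 hv)
        fun i j h x => Submodule.Quotient.induction_on _ x fun v => rfl)
      ⟨?_, ?_⟩⟩⟩
  · have : Module.FinitePresentation R (Finsupp.supported R R (i.1.1 : Set M)) :=
      Module.FinitePresentation.of_equiv (Finsupp.supportedEquivFinsupp (i.1.1 : Set M)).symm
    refine Module.finitePresentation_of_surjective _ (Submodule.mkQ_surjective _) ?_
    rw [Submodule.ker_mkQ]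
    apply Submodule.fg_of_fg_map_injective _
      (Submodule.injective_subtype (Finsupp.supported R R (i.1.1 : Set M)))
    rw [Submodule.map_comap_eq_of_le (by rw [Submodule.range_subtype]; exact i.2.2.2)]
    exact i.2.1
  · refine (injective_iff_map_eq_zero _).mpr fun z hz => ?_
    obtain ⟨i, x, rfl⟩ := Module.DirectLimit.exists_of z
    obtain ⟨v, rfl⟩ := Submodule.Quotient.mk_surjective _ x
    rw [Module.DirectLimit.lift_of] at hz
    replace hz : π (v : M →₀ R) = 0 := hz
    let j : ι := ⟨(i.1.1, i.1.2 ⊔ Submodule.span R {(v : M →₀ R)}),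
      i.2.1.sup (Submodule.fg_span_singleton _),
      sup_le i.2.2.1 (by simpa [Submodule.span_le] using hz),
      sup_le i.2.2.2 (by simp [Submodule.span_le])⟩
    have hij : i ≤ j := ⟨subset_rfl, le_sup_left⟩
    rw [← Module.DirectLimit.of_f (hij := hij)]
    convert map_zero (Module.DirectLimit.of R ι G f j)
    exact (Submodule.Quotient.mk_eq_zero _).mpr
      (Submodule.mem_sup_right (Submodule.subset_span rfl))
  · intro m
    refine ⟨Module.DirectLimit.of R ι G f ⟨({m}, ⊥), Submodule.fg_bot, bot_le, bot_le⟩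
      (Submodule.Quotient.mk ⟨Finsupp.single m 1, Finsupp.single_mem_supported R 1 (by simp)⟩), ?_⟩
    rw [Module.DirectLimit.lift_of]
    show π (Finsupp.single m 1) = m
    simp [π]

variable {ι : Type u} [Preorder ι] [IsDirected ι (· ≤ ·)]
  [DecidableEq ι] {G : ι → Type u} [∀ i, AddCommGroup (G i)] [∀ i, Module R (G i)]
  (f : ∀ i j, i ≤ j → G i →ₗ[R] G j) [DirectedSystem G fun i j h => f i j h]

/-- The chain data of a countably generated Mittag-Leffler colimit. -/
lemma exists_chain [Nonempty ι] [∀ i, Module.FinitePresentation R (G i)]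
    (hML : CAlg.IsMittagLeffler R (Module.DirectLimit G f))
    (hc : CAlg.IsCountablyGenerated R (Module.DirectLimit G f)) (i₀ : ι) :
    ∃ (c : ℕ → ι) (hmono : Monotone c), c 0 = i₀ ∧
      (∀ n k, ∀ hk : c n ≤ k, ∃ h : G k →ₗ[R] G (c (n + 1)),
        f (c n) (c (n + 1)) (hmono n.le_succ) = h ∘ₗ f (c n) k hk) ∧
      Submodule.span R (⋃ n, Set.range (Module.DirectLimit.of R ι G f (c n))) = ⊤ := by
  obtain ⟨s, hs, hspan⟩ := hc
  obtain ⟨m, hm⟩ := (hs.insert 0).exists_eq_range ⟨0, Set.mem_insert _ _⟩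
  choose idx b hb using fun n => Module.DirectLimit.exists_of (m n)
  choose φ hφ hfac using (ml_iff_eventually f).mp hML
  choose next h1 h2 using fun (n : ℕ) (i : ι) => directed_of (α := ι) (· ≤ ·) (φ i) (idx n)
  let c : ℕ → ι := fun n => n.rec i₀ next
  have hle : ∀ n, c n ≤ c (n + 1) := fun n => (hφ (c n)).trans (h1 n (c n))
  refine ⟨c, monotone_nat_of_le_succ hle, rfl, fun n k hk => ?_, ?_⟩
  · obtain ⟨h, hh⟩ := hfac (c n) k hk
    refine ⟨f (φ (c n)) (c (n + 1)) (h1 n (c n)) ∘ₗ h, ?_⟩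
    rw [LinearMap.comp_assoc, ← hh, f_comp]
  · rw [eq_top_iff, ← hspan]
    refine Submodule.span_le.mpr fun x hx => ?_
    obtain ⟨n, rfl⟩ : x ∈ Set.range m := hm ▸ Set.mem_insert_of_mem _ hx
    refine Submodule.subset_span (Set.mem_iUnion.mpr ⟨n + 1, f (idx n) (c (n + 1)) (h2 n (c n)) (b n), ?_⟩)
    rw [Module.DirectLimit.of_f, hb]

omit [IsDirected ι (· ≤ ·)] in
lemma bijective_of_chain (c : ℕ → ι) (hmono : Monotone c)
    [Nonempty ι] [IsDirected ι (· ≤ ·)]
    (hstab : ∀ n k, ∀ hk : c n ≤ k, ∃ h : G k →ₗ[R] G (c (n + 1)),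
        f (c n) (c (n + 1)) (hmono n.le_succ) = h ∘ₗ f (c n) k hk)
    (hspan : Submodule.span R (⋃ n, Set.range (Module.DirectLimit.of R ι G f (c n))) = ⊤) :
    Function.Bijective (Module.DirectLimit.lift R (Set.range c) (fun i : Set.range c => G i.1)
        (fun (i j : Set.range c) (h : i ≤ j) => f i.1 j.1 h)
        (fun i : Set.range c => Module.DirectLimit.of R ι G f i.1)
        (fun (i j : Set.range c) (h : i ≤ j) (x : G i.1) => Module.DirectLimit.of_f)) := by
  constructor
  · rw [← LinearMap.ker_eq_bot, eq_bot_iff]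
    intro z hz
    rw [LinearMap.mem_ker] at hz
    rw [Submodule.mem_bot]
    have : IsDirected (Set.range c) (· ≤ ·) := ⟨by
      rintro ⟨_, a, rfl⟩ ⟨_, b, rfl⟩
      exact ⟨⟨c (max a b), _, rfl⟩, hmono (le_max_left a b), hmono (le_max_right a b)⟩⟩
    have : Nonempty (Set.range c) := ⟨⟨c 0, 0, rfl⟩⟩
    obtain ⟨⟨_, n, rfl⟩, x, rfl⟩ := Module.DirectLimit.exists_of z
    rw [Module.DirectLimit.lift_of] at hz
    obtain ⟨k, hk, hx⟩ := Module.DirectLimit.of.zero_exact hz
    obtain ⟨h, hh⟩ := hstab n k hk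
    have h0 : f (c n) (c (n + 1)) (hmono n.le_succ) x = 0 := by
      rw [hh, LinearMap.comp_apply, hx, map_zero]
    rw [← Module.DirectLimit.of_f (R := R) (G := fun i : Set.range c => G i.1)
      (f := fun (i j : Set.range c) (h : i ≤ j) => f i.1 j.1 h)
      (j := ⟨c (n + 1), _, rfl⟩) (hij := hmono n.le_succ)]
    convert map_zero (Module.DirectLimit.of R (Set.range c) (fun i : Set.range c => G i.1)
      (fun (i j : Set.range c) (h : i ≤ j) => f i.1 j.1 h) ⟨c (n + 1), _, rfl⟩)
  · rw [← LinearMap.range_eq_top, eq_top_iff, ← hspan, Submodule.span_le]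
    intro x hx
    obtain ⟨n, y, rfl⟩ := Set.mem_iUnion.mp hx
    exact ⟨Module.DirectLimit.of R (Set.range c) _ _ ⟨c n, n, rfl⟩ y, Module.DirectLimit.lift_of _ _ _⟩

lemma exists_endo [Nonempty ι] [∀ i, Module.FinitePresentation R (G i)]
    (hML : CAlg.IsMittagLeffler R (Module.DirectLimit G f))
    (hc : CAlg.IsCountablyGenerated R (Module.DirectLimit G f)) (i₀ : ι) :
    ∃ (j : ι) (b : Module.DirectLimit G f →ₗ[R] G j),
      Module.DirectLimit.of R ι G f j ∘ₗ b ∘ₗ Module.DirectLimit.of R ι G f i₀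
        = Module.DirectLimit.of R ι G f i₀ := by
  obtain ⟨c, hmono, rfl, hstab, hspan⟩ := exists_chain f hML hc i₀
  choose h hh using fun n => hstab n (c (n + 2)) (hmono (by omega))
  let e : ∀ n, G (c (n + 1)) →ₗ[R] G (c 1) := fun n =>
    n.rec LinearMap.id (fun n en => en ∘ₗ h n)
  let w : ∀ n, G (c n) →ₗ[R] G (c 1) := fun n => e n ∘ₗ f (c n) (c (n + 1)) (hmono n.le_succ)
  have hstep : ∀ n, w (n + 1) ∘ₗ f (c n) (c (n + 1)) (hmono n.le_succ) = w n := fun n => by
    show (e n ∘ₗ h n ∘ₗ f _ _ _) ∘ₗ _ = e n ∘ₗ _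
    rw [LinearMap.comp_assoc, LinearMap.comp_assoc, f_comp, ← hh]
  have hw0 : w 0 = LinearMap.id ∘ₗ f (c 0) (c 1) (hmono (Nat.le_succ 0)) := rfl
  clear_value w
  have hcomp : ∀ n m (hnm : n ≤ m), w m ∘ₗ f (c n) (c m) (hmono hnm) = w n := by
    intro n m hnm
    induction m, hnm using Nat.le_induction with
    | base => exact LinearMap.ext fun x => congrArg (w n) (DirectedSystem.map_self' f x)
    | succ m hnm ih =>
      rw [← f_comp f (hmono hnm) (hmono m.le_succ), ← LinearMap.comp_assoc, hstep, ih]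
  let v : ∀ i : Set.range c, G i.1 →ₗ[R] G (c 1) := fun i =>
    w i.2.choose ∘ₗ f i.1 (c i.2.choose) i.2.choose_spec.ge
  have hv : ∀ (i : Set.range c) (n : ℕ) (hn : i.1 ≤ c n), v i = w n ∘ₗ f i.1 (c n) hn := by
    intro i n hn
    show w _ ∘ₗ f _ _ _ = _
    rw [← hcomp i.2.choose _ (le_max_left i.2.choose n), ← hcomp n _ (le_max_right i.2.choose n),
      LinearMap.comp_assoc, LinearMap.comp_assoc, f_comp, f_comp]
  let L := Module.DirectLimit.lift R (Set.range c) (fun i : Set.range c => G i.1)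
        (fun (i j : Set.range c) (h : i ≤ j) => f i.1 j.1 h)
        (fun i : Set.range c => Module.DirectLimit.of R ι G f i.1)
        (fun (i j : Set.range c) (h : i ≤ j) (x : G i.1) => Module.DirectLimit.of_f)
  let V := Module.DirectLimit.lift R (Set.range c) (fun i : Set.range c => G i.1)
        (fun (i j : Set.range c) (h : i ≤ j) => f i.1 j.1 h) v
        (fun i j hij x => by
          obtain ⟨⟨_, n, rfl⟩⟩ := (⟨j⟩ : Nonempty (Set.range c))
          rw [hv j j.2.choose j.2.choose_spec.ge, hv i j.2.choose (le_trans hij j.2.choose_spec.ge)]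
          rw [LinearMap.comp_apply, LinearMap.comp_apply]
          exact congrArg _ (DirectedSystem.map_map' f hij j.2.choose_spec.ge x))
  let E := LinearEquiv.ofBijective L (bijective_of_chain f c hmono hstab hspan)
  refine ⟨c 1, V ∘ₗ E.symm.toLinearMap, LinearMap.ext fun x => ?_⟩
  have : E.symm (Module.DirectLimit.of R ι G f (c 0) x) =
      Module.DirectLimit.of R (Set.range c) _ _ ⟨c 0, 0, rfl⟩ x := by
    rw [LinearEquiv.symm_apply_eq, LinearEquiv.ofBijective_apply, Module.DirectLimit.lift_of]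
  simp only [LinearMap.comp_apply, LinearEquiv.coe_coe, this]
  show Module.DirectLimit.of R ι G f (c 1) (V _) = _
  rw [Module.DirectLimit.lift_of, hv _ 0 le_rfl, LinearMap.comp_apply]
  rw [hw0, LinearMap.id_comp]
  rw [Module.DirectLimit.of_f, Module.DirectLimit.of_f]

end Groth.Agent.ML3
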