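import Mathlib.RingTheory.Flat.Basic
import Mathlib.RingTheory.Noetherian.Basic
import Groth.Agent.ML3.Dominate

set_option autoImplicit false
universe u
open scoped TensorProduct
open LinearMap

namespace Groth.Agent.ML3

variable {R : Type u} [CommRing R] {M : Type u} [AddCommGroup M] [Module R M]

lemma mem_range_ker_of_flat [Module.Flat R M] {F G : Type u} [AddCommGroup F] [Module R F]
    [AddCommGroup G] [Module R G] (φ : F →ₗ[R] G) (x : F ⊗[R] M) (hx : φ.rTensor M x = 0) :
    x ∈ LinearMap.range ((LinearMap.ker φ).subtype.rTensor M) :=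
  (Module.Flat.rTensor_exact M (LinearMap.exact_subtype_ker_map φ) x).1 hx

lemma exists_smallest [Module.Flat R M] (hM : CAlg.IsMittagLeffler R M)
    (F : Type u) [AddCommGroup F] [Module R F] (x : F ⊗[R] M) :
    ∃ F' : Submodule R F, F'.FG ∧ x ∈ LinearMap.range (F'.subtype.rTensor M) ∧
      ∀ F'' : Submodule R F, x ∈ LinearMap.range (F''.subtype.rTensor M) → F' ≤ F'' := by
  let ι := {N : Submodule R F // x ∈ LinearMap.range (N.subtype.rTensor M)}
  let ψ : F →ₗ[R] (∀ N : ι, F ⧸ N.1) := LinearMap.pi fun N => N.1.mkQ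
  have h0 : ψ.rTensor M x = 0 := by
    apply (TensorProduct.comm R _ M).injective
    apply hM ι fun N => F ⧸ N.1
    funext N
    simp only [map_zero, Pi.zero_apply]
    have key : ∀ x : F ⊗[R] M, TensorProduct.piRightHom R R M (fun N : ι => F ⧸ N.1)
        (TensorProduct.comm R _ M (ψ.rTensor M x)) N =
          TensorProduct.comm R _ M (N.1.mkQ.rTensor M x) := by
      intro x
      induction x using TensorProduct.induction_on with
      | zero => simp
      | tmul f m => simp [ψ]
      | add a b ha hb => simp [ha, hb]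
    obtain ⟨z, hz⟩ := N.2
    have h2 : N.1.mkQ ∘ₗ N.1.subtype = 0 := LinearMap.ext fun v => by simp
    have h3 : N.1.mkQ.rTensor M x = 0 := by
      have := congrArg (N.1.mkQ.rTensor M) hz
      rwa [← LinearMap.rTensor_comp_apply, h2, LinearMap.rTensor_zero, LinearMap.zero_apply,
        eq_comm] at this
    rw [key, h3, map_zero]
  obtain ⟨z, hz⟩ := mem_range_ker_of_flat ψ x h0
  obtain ⟨t, ht, hxt⟩ := exists_fg_le_mem_range (LinearMap.ker ψ) z
  rw [hz] at hxt
  refine ⟨Submodule.span R (t : Set F), Submodule.fg_span t.finite_toSet, hxt, fun F'' hF => ?_⟩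
  rw [Submodule.span_le]
  intro k hk
  simpa [ψ] using congrFun (LinearMap.mem_ker.mp (ht k hk)) ⟨F'', hF⟩

lemma ml_of_smallest [Module.Flat R M]
    (h : ∀ (n : ℕ) (x : (Fin n → R) ⊗[R] M), ∃ F' : Submodule R (Fin n → R),
      x ∈ LinearMap.range (F'.subtype.rTensor M) ∧
      ∀ F'' : Submodule R (Fin n → R), x ∈ LinearMap.range (F''.subtype.rTensor M) → F' ≤ F'') :
    CAlg.IsMittagLeffler R M := by
  classical
  rw [ml_iff_forall]
  intro ι Q _ _ X hX
  obtain ⟨S, rfl⟩ := TensorProduct.exists_finset X
  let e := S.equivFin.symm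
  let φ : (Fin S.card → R) →ₗ[R] (∀ i, Q i) := Fintype.linearCombination R fun k => (e k).1.2
  let x : (Fin S.card → R) ⊗[R] M := ∑ k, Pi.single k 1 ⊗ₜ (e k).1.1
  have hφ : TensorProduct.comm R _ M (φ.rTensor M x) = ∑ p ∈ S, p.1 ⊗ₜ p.2 := by
    rw [← Finset.sum_coe_sort S, ← e.sum_comp]
    simp [x, φ]
  obtain ⟨F', hxF', hmin⟩ := h _ x
  have hle : F' ≤ LinearMap.ker φ := fun v hv => funext fun i => by
    have hi : x ∈ LinearMap.range
        ((LinearMap.ker (LinearMap.proj i ∘ₗ φ)).subtype.rTensor M) := by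
      apply mem_range_ker_of_flat
      apply (TensorProduct.comm R _ M).injective
      rw [map_zero, LinearMap.rTensor_comp_apply]
      have := congrFun hX i
      rw [← hφ] at this
      rw [Pi.zero_apply] at this
      rw [← this]
      generalize φ.rTensor M x = w
      induction w using TensorProduct.induction_on with
      | zero => simp
      | tmul q m => simp
      | add a b ha hb => simp [ha, hb]
    simpa using hmin _ hi hv
  obtain ⟨z, hz⟩ := hxF'
  have h2 : φ ∘ₗ F'.subtype = 0 := LinearMap.ext fun v => LinearMap.mem_ker.mp (hle v.2)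
  rw [← hφ, ← hz, ← LinearMap.rTensor_comp_apply, h2]
  simp

lemma flat_pi [IsNoetherianRing R] (A : Type u) : Module.Flat R (A → R) := by
  refine Module.Flat.iff_rTensor_injective'.mpr fun I => ?_
  have : Module.FinitePresentation R I := Module.finitePresentation_of_finite R I
  intro a b hab
  apply ml_of_fp (R := R) (M := I) A fun _ => R
  funext t
  apply Module.Flat.rTensor_preserves_injective_linearMap (M := R) I.subtype I.injective_subtype
  rw [← piHom_rTensor (fun _ : A => R), ← piHom_rTensor (fun _ : A => R), hab]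

lemma ml_pi [IsNoetherianRing R] (A : Type u) : CAlg.IsMittagLeffler R (A → R) := by
  have := flat_pi (R := R) A
  refine ml_of_smallest fun n x => ?_
  let c : A → (Fin n → R) := fun a =>
    TensorProduct.rid R _ (TensorProduct.piRightHom R R _ (fun _ => R) x a)
  let F' := Submodule.span R (Set.range c)
  refine ⟨F', ?_, fun F'' hF => Submodule.span_le.mpr ?_⟩
  · obtain ⟨z, hz⟩ := piHom_surjective (R := R) (M := F') (fun _ : A => R)
      fun a => (⟨c a, Submodule.subset_span ⟨a, rfl⟩⟩ : F') ⊗ₜ (1 : R)
    refine ⟨z, (piHom_bijective_fin (fun _ : A => R) n).1 (funext fun a => ?_)⟩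
    rw [piHom_rTensor, hz]
    apply (TensorProduct.rid R (Fin n → R)).injective
    simp [c]
  · rintro _ ⟨a, rfl⟩
    obtain ⟨z, rfl⟩ := hF
    show TensorProduct.rid R _ _ ∈ F''
    rw [piHom_rTensor]
    generalize TensorProduct.piRightHom R R F'' (fun _ => R) z a = w
    induction w using TensorProduct.induction_on with
    | zero => simp
    | tmul v r => simpa using F''.smul_mem r v.2
    | add p q hp hq => simpa using F''.add_mem hp hq

end Groth.Agent.ML3
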