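import Mathlib.LinearAlgebra.TensorProduct.Tower
import Mathlib.RingTheory.Flat.Basic
import Mathlib.RingTheory.Finiteness.ModuleFinitePresentation
import Groth.Agent.ML3.Dominate

set_option autoImplicit false
universe u
open scoped TensorProduct
open LinearMap

namespace Groth.Agent.ML3

section Tensor

variable {R : Type u} [CommRing R] {A B C A' L : Type u} [AddCommGroup A] [Module R A]
  [AddCommGroup B] [Module R B] [AddCommGroup C] [Module R C] [AddCommGroup A'] [Module R A']
  [AddCommGroup L] [Module R L]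

lemma dom_rTensor {f : A →ₗ[R] B} {g : A →ₗ[R] C} (h : Dom f g) :
    Dom (f.rTensor L) (g.rTensor L) := by
  intro Z _ _ x hx
  have key : ∀ {D : Type u} [AddCommGroup D] [Module R D] (φ : A →ₗ[R] D) (x : (A ⊗[R] L) ⊗[R] Z),
      TensorProduct.assoc R D L Z ((φ.rTensor L).rTensor Z x) =
        φ.rTensor (L ⊗[R] Z) (TensorProduct.assoc R A L Z x) := by
    intro D _ _ φ x
    rw [← LinearEquiv.coe_coe, ← LinearEquiv.coe_coe, ← LinearMap.comp_apply, ← LinearMap.comp_apply]
    congr 1
    ext a l z
    simp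
  rw [LinearMap.mem_ker] at hx ⊢
  apply (TensorProduct.assoc R C L Z).injective
  rw [map_zero, key]
  exact h _ (show f.rTensor _ (TensorProduct.assoc R A L Z x) = 0 by rw [← key, hx, map_zero])

lemma dom_lTensor {f : A →ₗ[R] B} {g : A →ₗ[R] C} (h : Dom f g) :
    Dom (f.lTensor L) (g.lTensor L) := by
  intro Z _ _ x hx
  have key : ∀ {D : Type u} [AddCommGroup D] [Module R D] (φ : A →ₗ[R] D) (x : (L ⊗[R] A) ⊗[R] Z),
      (TensorProduct.comm R L D).rTensor Z ((φ.lTensor L).rTensor Z x) =
        (φ.rTensor L).rTensor Z ((TensorProduct.comm R L A).rTensor Z x) := by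
    intro D _ _ φ x
    rw [← LinearEquiv.coe_coe, ← LinearEquiv.coe_coe, ← LinearMap.comp_apply, ← LinearMap.comp_apply]
    congr 1
    ext l a z
    simp
  rw [LinearMap.mem_ker] at hx ⊢
  apply ((TensorProduct.comm R L C).rTensor Z).injective
  rw [map_zero, key]
  exact dom_rTensor h _ (show (f.rTensor L).rTensor Z _ = 0 by rw [← key, hx, map_zero])

lemma dom_map {B' C' : Type u} [AddCommGroup B'] [Module R B'] [AddCommGroup C'] [Module R C']
    {f : A →ₗ[R] B} {g : A →ₗ[R] C} {f' : A' →ₗ[R] B'} {g' : A' →ₗ[R] C'}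
    (h : Dom f g) (h' : Dom f' g') :
    Dom (TensorProduct.map f f') (TensorProduct.map g g') := by
  intro Z _ _ x hx
  rw [LinearMap.mem_ker] at hx ⊢
  rw [← LinearMap.lTensor_comp_rTensor, LinearMap.rTensor_comp_apply] at hx
  have h1 : (g'.lTensor B).rTensor Z ((f.rTensor A').rTensor Z x) = 0 := dom_lTensor h' Z hx
  rw [← LinearMap.rTensor_comp_apply, LinearMap.lTensor_comp_rTensor, ← LinearMap.rTensor_comp_lTensor,
    LinearMap.rTensor_comp_apply] at h1
  rw [← LinearMap.rTensor_comp_lTensor, LinearMap.rTensor_comp_apply]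
  exact dom_rTensor h Z h1

lemma fp_tensor [Module.FinitePresentation R A] [Module.FinitePresentation R B] :
    Module.FinitePresentation R (A ⊗[R] B) := by
  obtain ⟨a, π, hπ⟩ := Module.Finite.exists_fin' R A
  have : Module.Finite R (LinearMap.ker π) :=
    Module.Finite.iff_fg.mpr (Module.FinitePresentation.fg_ker π hπ)
  have : Module.FinitePresentation R ((Fin a → R) ⊗[R] B) :=
    Module.FinitePresentation.of_equiv
      ((TensorProduct.comm R _ _).trans (TensorProduct.piScalarRight R R B (Fin a))).symm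
  refine Module.finitePresentation_of_surjective (π.rTensor B) (LinearMap.rTensor_surjective B hπ) ?_
  rw [LinearMap.exact_iff.mp (rTensor_exact B (LinearMap.exact_subtype_ker_map π) hπ)]
  rw [LinearMap.range_eq_map]
  exact Module.Finite.fg_top.map _

lemma ml_tensor {M N : Type u} [AddCommGroup M] [Module R M] [AddCommGroup N] [Module R N]
    (hM : CAlg.IsMittagLeffler R M) (hN : CAlg.IsMittagLeffler R N) :
    CAlg.IsMittagLeffler R (M ⊗[R] N) := by
  classical
  refine ml_of_domProp fun n φ => ?_
  choose S hS using fun k : Fin n => TensorProduct.exists_finset (φ (Pi.single k 1))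
  let T : Finset (M × N) := Finset.univ.biUnion S
  let e := T.equivFin.symm
  let f : (Fin T.card → R) →ₗ[R] M := Fintype.linearCombination R fun t => (e t).1.1
  let f' : (Fin T.card → R) →ₗ[R] N := Fintype.linearCombination R fun t => (e t).1.2
  have hr : ∀ k, φ (Pi.single k 1) ∈ LinearMap.range (TensorProduct.map f f') := fun k => by
    rw [hS k]
    refine Submodule.sum_mem _ fun p hp => ?_
    have hpT : p ∈ T := Finset.mem_biUnion.mpr ⟨k, Finset.mem_univ _, hp⟩
    exact ⟨Pi.single (e.symm ⟨p, hpT⟩) 1 ⊗ₜ Pi.single (e.symm ⟨p, hpT⟩) 1, by simp [f, f']⟩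
  choose a ha using hr
  let α : (Fin n → R) →ₗ[R] _ := Fintype.linearCombination R a
  have hφ : φ = TensorProduct.map f f' ∘ₗ α :=
    LinearMap.pi_ext' fun k => LinearMap.ext_ring (by simp [α, ha])
  obtain ⟨Q, _, _, _, g, hg⟩ := domProp_of_ml hM _ f
  obtain ⟨Q', _, _, _, g', hg'⟩ := domProp_of_ml hN _ f'
  refine ⟨Q ⊗[R] Q', inferInstance, inferInstance, fp_tensor, TensorProduct.map g g' ∘ₗ α,
    fun Z _ _ => ?_⟩
  rw [hφ, LinearMap.rTensor_comp, LinearMap.rTensor_comp, LinearMap.ker_comp, LinearMap.ker_comp]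
  congr 1
  exact le_antisymm (dom_map (fun Z _ _ => (hg Z).le) (fun Z _ _ => (hg' Z).le) Z)
    (dom_map (fun Z _ _ => (hg Z).ge) (fun Z _ _ => (hg' Z).ge) Z)

end Tensor

section Scalars

variable {R S : Type u} [CommRing R] [CommRing S] [Algebra R S]

lemma ml_trans {M : Type u} [AddCommGroup M] [Module S M] [Module R M] [IsScalarTower R S M]
    (hM : CAlg.IsMittagLeffler S M)
    (hinj : ∀ (ι : Type u) (Q : ι → Type u) [∀ i, AddCommGroup (Q i)] [∀ i, Module R (Q i)],
      Function.Injective ((TensorProduct.piRightHom R S S Q).lTensor M)) :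
    CAlg.IsMittagLeffler R M := by
  rw [ml_iff_forall]
  intro ι Q _ _ x hx
  let e := TensorProduct.AlgebraTensorModule.cancelBaseChange R S S M (∀ i, Q i)
  obtain ⟨y, rfl⟩ := e.surjective x
  have key : ∀ (y : M ⊗[S] (S ⊗[R] ∀ i, Q i)) (i : ι),
      TensorProduct.piRightHom R R M Q (e y) i =
        TensorProduct.AlgebraTensorModule.cancelBaseChange R S S M (Q i)
          (TensorProduct.piRightHom S S M (fun i => S ⊗[R] Q i)
            ((TensorProduct.piRightHom R S S Q).lTensor M y) i) := by
    intro y i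
    induction y using TensorProduct.induction_on with
    | zero => simp
    | add a b ha hb => simp [ha, hb]
    | tmul m w =>
      induction w using TensorProduct.induction_on with
      | zero => simp
      | add a b ha hb => simp [TensorProduct.tmul_add, ha, hb]
      | tmul s q => simp [e]
  have : y = 0 := by
    apply hinj ι Q
    rw [map_zero]
    apply hM ι fun i => S ⊗[R] Q i
    funext i
    apply (TensorProduct.AlgebraTensorModule.cancelBaseChange R S S M (Q i)).injective
    rw [← key, hx]
    simp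
  rw [this, map_zero]

lemma ml_baseChange {M : Type u} [AddCommGroup M] [Module R M] (hM : CAlg.IsMittagLeffler R M) :
    CAlg.IsMittagLeffler S (S ⊗[R] M) := by
  rw [ml_iff_forall]
  intro ι Q _ _ x hx
  let _ : ∀ i, Module R (Q i) := fun i => Module.compHom (Q i) (algebraMap R S)
  have : ∀ i, IsScalarTower R S (Q i) := fun i => IsScalarTower.of_algebraMap_smul fun _ _ => rfl
  let e : (S ⊗[R] M) ⊗[S] (∀ i, Q i) ≃+ M ⊗[R] (∀ i, Q i) :=
    ((TensorProduct.comm S _ _).toAddEquiv.trans
      (TensorProduct.AlgebraTensorModule.cancelBaseChange R S S (∀ i, Q i) M).toAddEquiv).trans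
      (TensorProduct.comm R _ _).toAddEquiv
  let e' : ∀ i, (S ⊗[R] M) ⊗[S] Q i ≃+ M ⊗[R] Q i := fun i =>
    ((TensorProduct.comm S _ _).toAddEquiv.trans
      (TensorProduct.AlgebraTensorModule.cancelBaseChange R S S (Q i) M).toAddEquiv).trans
      (TensorProduct.comm R _ _).toAddEquiv
  have key : ∀ (x : (S ⊗[R] M) ⊗[S] (∀ i, Q i)) (i : ι),
      TensorProduct.piRightHom R R M Q (e x) i =
        e' i (TensorProduct.piRightHom S S _ Q x i) := by
    intro x i
    induction x using TensorProduct.induction_on with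
    | zero => simp
    | add a b ha hb => simp [ha, hb]
    | tmul w q =>
      induction w using TensorProduct.induction_on with
      | zero => simp
      | add a b ha hb => simp [TensorProduct.add_tmul, ha, hb]
      | tmul s m => simp [e, e']
  apply e.injective
  apply hM ι Q
  funext i
  rw [key, hx, map_zero, map_zero]
  simp

lemma ml_of_linearEquiv {M N : Type u} [AddCommGroup M] [Module R M] [AddCommGroup N] [Module R N]
    (e : M ≃ₗ[R] N) (h : CAlg.IsMittagLeffler R N) : CAlg.IsMittagLeffler R M :=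
  ml_of_univInj e.toLinearMap (fun Q _ _ => (e.rTensor Q).injective) h

end Scalars

end Groth.Agent.ML3
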